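import Cfsg.Agent.H644.T9.Spor
import Cfsg.Agent.S0254

/-!
# S4876 (T9d): the table of the known simple groups with elementary abelian Sylow 3-subgroups of order 9 (helper644)

`row` : the list; `tab` : `Tab S`, from the rows `QRow` for `PSL₃(q)`, `PSU₃(q)`, `M₂₂`. The table of the orders is a
hypothesis (`OrdDiv.table`).
-/

set_option autoImplicit false

namespace Cfsg.Agent.H644.T9

open Cfsg Subgroup Cfsg.Agent.H629.T9 Cfsg.Agent.OrdDiv

universe u

/-- `PSL₃(q)`, `q = 4, 7 mod 9` -/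
def IsL (S : Type u) [Group S] : Prop :=
  ∃ (F : Type) (_ : Field F) (_ : Fintype F), (Fintype.card F % 9 = 4 ∨ Fintype.card F % 9 = 7) ∧
    Nonempty (S ≃* Matrix.ProjectiveSpecialLinearGroup (Fin 3) F)

/-- `PSU₃(q)`, `q = 2, 5 mod 9`, `q > 2` -/
def IsU (S : Type u) [Group S] : Prop :=
  ∃ (F : Type) (_ : Field F) (_ : Fintype F) (q : ℕ), Fintype.card F = q ^ 2 ∧ 2 < q ∧ (q % 9 = 2 ∨ q % 9 = 5) ∧
    Nonempty (S ≃* PSU 3 F q)

/-- **The list.** -/
theorem row (T : OrderTable.{u}) {S : Type u} [Group S] [Finite S] (hk : IsKnownSimple' S) (h : Nine S) :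
    NotFree S ∨ IsL S ∨ IsU S ∨ Spor.IsoM22 S ∨ Nonempty (S ≃* alternatingGroup (Fin 6)) ∨
      Nonempty (S ≃* alternatingGroup (Fin 7)) := by
  rcases hk with h1 | h1 | h1 | h1 | h1 | h1 | h1 | h1 | h1 | h1
  · exfalso
    have h2 : (Nat.card S).Prime := h1
    have h3 := (Nat.prime_dvd_prime_iff_eq Nat.prime_three h2).1 ((by norm_num : 3 ∣ 9).trans h.dvd)
    have h4 := h.dvd
    rw [← h3] at h4
    norm_num at h4
  · obtain ⟨n, hn, ⟨e⟩⟩ := h1
    rcases alt_row hn (h.of_equiv e) with rfl | rfl | rfl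
    · exact Or.inr (Or.inr (Or.inr (Or.inr (Or.inl ⟨e⟩))))
    · exact Or.inr (Or.inr (Or.inr (Or.inr (Or.inr ⟨e⟩))))
    · exact Or.inl (notFree_a8.congr e.symm)
  · obtain ⟨F, _, _, n, hn, -, ⟨e⟩⟩ := h1
    rcases psl_row hn (h.of_equiv e) with h2 | ⟨rfl, h2⟩ | ⟨rfl, h2⟩
    · exact Or.inl (h2.congr e.symm)
    · obtain ⟨f⟩ := Cfsg.Agent.S0254.result (F := F) h2
      exact Or.inr (Or.inr (Or.inr (Or.inr (Or.inl ⟨e.trans f⟩))))
    · exact Or.inr (Or.inl ⟨F, inferInstance, inferInstance, h2, ⟨e⟩⟩)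
  · obtain ⟨F, _, _, n, hn, -, ⟨e⟩⟩ := h1
    exact Or.inl ((psp_row hn (h.of_equiv e)).congr e.symm)
  · obtain ⟨F, _, _, n, q, hF, hn, hq, ⟨e⟩⟩ := h1
    rcases psu_row hF hn (h.of_equiv e) with h2 | ⟨rfl, h2⟩
    · exact Or.inl (h2.congr e.symm)
    · exact Or.inr (Or.inr (Or.inl ⟨F, inferInstance, inferInstance, q, hF, by omega, h2, ⟨e⟩⟩))
  · obtain ⟨F, _, _, m, hm, hF, ⟨e⟩⟩ := h1
    exact absurd (odd_row hm hF) (h.of_equiv e).ndvd
  · obtain ⟨F, _, _, m, hm, ⟨e⟩⟩ := h1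
    exact absurd (plus_row hm) (h.of_equiv e).ndvd
  · obtain ⟨F, _, _, m, a, b, hm, hab, ⟨e⟩⟩ := h1
    exact absurd (minus_row hm a b hab) (h.of_equiv e).ndvd
  · exact (exc_row T h1 h).elim
  · rcases spor_row T h1 h with h2 | h2 | h2 | h2
    · exact Or.inl (notFree_m11 h2)
    · exact Or.inr (Or.inr (Or.inr (Or.inl h2)))
    · exact Or.inl (notFree_m23 h2)
    · exact Or.inl (notFree_hs h2)

/-- **The table** from the rows. -/
theorem tab_of (T : OrderTable.{u}) (rL : ∀ (X : Type u) [Group X] [Finite X], IsL X → QRow X)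
    (rU : ∀ (X : Type u) [Group X] [Finite X], IsU X → QRow X)
    (rM : ∀ (X : Type u) [Group X] [Finite X], Spor.IsoM22 X → QRow X)
    {S : Type u} [Group S] [Finite S] (hk : IsKnownSimple' S) {P : Sylow 3 S}
    (hc : Nat.card (P : Subgroup S) = 9) (hn : ¬ IsCyclic (P : Subgroup S)) : Tab S := by
  rcases row T hk (Nine.of_sylow hc hn) with h | h | h | h | h | h
  · exact Or.inl h
  · exact Or.inr (Or.inl (rL S h))
  · exact Or.inr (Or.inl (rU S h))
  · exact Or.inr (Or.inl (rM S h))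
  · exact Or.inr (Or.inr (Or.inl h))
  · exact Or.inr (Or.inr (Or.inr h))

end Cfsg.Agent.H644.T9
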