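import Cfsg.Agent.H596.T9.Mat
import Cfsg.Agent.H356.KillPSU

/-!
# `QRow` for `PSU₃(q)`, `q = 2, 5 mod 9`, from a character of degree `±2` mod `9` (helper644)
-/

set_option autoImplicit false

namespace Cfsg.Agent.H644.T9

open Matrix Cfsg Subgroup Cfsg.Agent.Phan Cfsg.Agent.LieClassical.HermBasic Cfsg.Agent.H596.T9 Cfsg.Agent.H629.T9
  Cfsg.Agent.H356

universe u v

section Mat

variable {F : Type*} [Field F] [Fintype F] {q : ℕ}

/-- a criterion for isometries -/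
theorem isom_of (hF : Fintype.card F = q ^ 2) {n : ℕ} {A : Matrix (Fin n) (Fin n) F}
    (h : Aᵀ * A.map (fun x => x ^ q) = 1) (u v : Fin n → F) :
    hermForm n F q (A *ᵥ u) (A *ᵥ v) = hermForm n F q u v := by
  have h1 : (fun i => (A *ᵥ v) i ^ q) = A.map (fun x => x ^ q) *ᵥ (fun i => v i ^ q) := by
    funext i
    rw [mulVec, mulVec, dotProduct, dotProduct, sum_pow_q hF]
    refine Finset.sum_congr rfl fun j _ => ?_
    rw [mul_pow, map_apply]
  have h2 : hermForm n F q (A *ᵥ u) (A *ᵥ v) = (A *ᵥ u) ⬝ᵥ (fun i => (A *ᵥ v) i ^ q) := rfl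
  have h3 : hermForm n F q u v = u ⬝ᵥ (fun i => v i ^ q) := rfl
  rw [h2, h3, h1, dotProduct_mulVec, ← mulVec_transpose, mulVec_mulVec]
  have h4 : (A.map (fun x => x ^ q))ᵀ * A = 1 := by
    have := congrArg Matrix.transpose h
    rwa [transpose_mul, transpose_transpose, transpose_one] at this
  rw [h4, one_mulVec]

/-- the third root of unity -/
theorem exists_wu (hF : Fintype.card F = q ^ 2) (h2 : q % 3 = 2) :
    (3 : F) ≠ 0 ∧ ∃ w c : F, w ^ 2 + w + 1 = 0 ∧ c * (w - w ^ 2) = 1 ∧ w ^ q = w ^ 2 ∧ c ^ q = -c := by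
  have hq2 := two_le hF
  have hd : 3 ∣ Fintype.card F - 1 := by
    rw [hF]
    have : q ^ 2 - 1 = (q + 1) * (q - 1) := by simpa using Nat.sq_sub_sq q 1
    rw [this]
    exact dvd_mul_of_dvd_left (by omega) _
  obtain ⟨w, hw⟩ := KillPSL.exists_orderOf (F := F) hd
  have hw3 : w ^ 3 = 1 := hw ▸ pow_orderOf_eq_one w
  have hw1 : w ≠ 1 := by
    rintro rfl
    rw [orderOf_one] at hw
    omega
  have hw0 : w ≠ 0 := by
    rintro rfl
    norm_num at hw3
  have hq : w ^ 2 + w + 1 = 0 := by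
    have h2 : (w - 1) * (w ^ 2 + w + 1) = 0 := by linear_combination hw3
    exact (mul_eq_zero.1 h2).resolve_left (sub_ne_zero.2 hw1)
  have h3 : (3 : F) ≠ 0 := by
    intro h3
    apply hw1
    have h4 : (w - 1) ^ 2 = 0 := by linear_combination hq - w * h3
    exact sub_eq_zero.1 (pow_eq_zero_iff two_ne_zero |>.1 h4)
  have hne : w - w ^ 2 ≠ 0 := by
    intro h4
    have h5 : w * (1 - w) = 0 := by linear_combination h4
    rcases mul_eq_zero.1 h5 with h6 | h6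
    · exact hw0 h6
    · exact hw1 (sub_eq_zero.1 h6).symm
  have hwq : w ^ q = w ^ 2 := by
    obtain ⟨k, rfl⟩ : ∃ k, q = 3 * k + 2 := ⟨q / 3, by omega⟩
    rw [pow_add, pow_mul, hw3, one_pow, one_mul]
  refine ⟨h3, w, (w - w ^ 2)⁻¹, hq, inv_mul_cancel₀ hne, hwq, ?_⟩
  rw [inv_pow, sub_pow_q hF, ← pow_mul, mul_comm 2 q, pow_mul, hwq]
  have h5 : w ^ 2 - (w ^ 2) ^ 2 = -(w - w ^ 2) := by linear_combination (-w) * hw3
  rw [h5, inv_neg]

theorem mapq (a b c d e f g h i : F) : (!![a, b, c; d, e, f; g, h, i] : Matrix (Fin 3) (Fin 3) F).map (fun x => x ^ q) =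
    !![a ^ q, b ^ q, c ^ q; d ^ q, e ^ q, f ^ q; g ^ q, h ^ q, i ^ q] := by
  ext j k
  fin_cases j <;> fin_cases k <;> rfl

variable {w c : F} (hF : Fintype.card F = q ^ 2) (hw : w ^ 2 + w + 1 = 0) (hc : c * (w - w ^ 2) = 1)
  (hwq : w ^ q = w ^ 2) (hcq : c ^ q = -c)

include hF hw hwq in
theorem isoA (u v : Fin 3 → F) : hermForm 3 F q (mA w *ᵥ u) (mA w *ᵥ v) = hermForm 3 F q u v := by
  apply isom_of hF
  have hq0 : q ≠ 0 := (q_pos hF).ne'
  have h2 : (w ^ 2) ^ q = w ^ 4 := by rw [← pow_mul, mul_comm 2 q, pow_mul, hwq]; ring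
  rw [mA, mapq]
  ext i j
  fin_cases i <;> fin_cases j <;> simp [Matrix.mul_apply, Fin.sum_univ_three, hwq, h2, hq0] <;> grind

include hF in
theorem isoB (u v : Fin 3 → F) : hermForm 3 F q (mB F *ᵥ u) (mB F *ᵥ v) = hermForm 3 F q u v := by
  apply isom_of hF
  have hq0 : q ≠ 0 := (q_pos hF).ne'
  rw [mB, mapq]
  ext i j
  fin_cases i <;> fin_cases j <;> simp [Matrix.mul_apply, Fin.sum_univ_three, hq0, one_apply]

include hF hw hc hwq hcq in
theorem isoF (u v : Fin 3 → F) : hermForm 3 F q (mF w c *ᵥ u) (mF w c *ᵥ v) = hermForm 3 F q u v := by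
  apply isom_of hF
  have h2 : (w ^ 2) ^ q = w ^ 4 := by rw [← pow_mul, mul_comm 2 q, pow_mul, hwq]; ring
  rw [mF, mapq]
  ext i j
  fin_cases i <;> fin_cases j <;> simp [Matrix.mul_apply, Fin.sum_univ_three, mul_pow, hwq, hcq, h2, one_apply] <;> grind

include hF hw hc hwq hcq in
theorem isoH (u v : Fin 3 → F) : hermForm 3 F q (mH w c *ᵥ u) (mH w c *ᵥ v) = hermForm 3 F q u v := by
  apply isom_of hF
  have h2 : (w ^ 2) ^ q = w ^ 4 := by rw [← pow_mul, mul_comm 2 q, pow_mul, hwq]; ring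
  rw [mH, mapq]
  ext i j
  fin_cases i <;> fin_cases j <;> simp [Matrix.mul_apply, Fin.sum_univ_three, mul_pow, hwq, hcq, h2, one_apply] <;> grind

end Mat

theorem fact_nine' {n m : ℕ} (h : n = 9 * m) (hm : ¬ 3 ∣ m) : n.factorization 3 = 2 := by
  have hm0 : m ≠ 0 := by rintro rfl; exact hm (dvd_zero 3)
  have h3 : Nat.Prime 3 := Nat.prime_three
  rw [h, Nat.factorization_mul (by norm_num) hm0, Finsupp.add_apply, Nat.factorization_eq_zero_of_not_dvd hm,
    show (9 : ℕ) = 3 ^ 2 from rfl, h3.factorization_pow]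
  simp

theorem psu_num {q N : ℕ} (hq : q % 9 = 2 ∨ q % 9 = 5) (h : 3 * N = q ^ 3 * (q ^ 2 - 1) * (q ^ 3 + 1)) :
    N.factorization 3 = 2 := by
  have h3 : Nat.Prime 3 := Nat.prime_three
  rcases hq with hq | hq
  · obtain ⟨k, rfl⟩ : ∃ k, q = 9 * k + 2 := ⟨q / 9, by omega⟩
    have e1 : (9 * k + 2) ^ 2 - 1 = 3 * ((3 * k + 1) * (9 * k + 1)) := by
      have : (9 * k + 2) ^ 2 = 3 * ((3 * k + 1) * (9 * k + 1)) + 1 := by ring
      omega
    have e2 : (9 * k + 2) ^ 3 + 1 = 9 * ((3 * k + 1) * (27 * k ^ 2 + 9 * k + 1)) := by ring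
    rw [e1, e2] at h
    refine fact_nine' (m := (9 * k + 2) ^ 3 * ((3 * k + 1) * (9 * k + 1)) * ((3 * k + 1) * (27 * k ^ 2 + 9 * k + 1))) ?_ ?_
    · have : 3 * N = 3 * (9 * ((9 * k + 2) ^ 3 * ((3 * k + 1) * (9 * k + 1)) *
        ((3 * k + 1) * (27 * k ^ 2 + 9 * k + 1)))) := by rw [h]; ring
      exact Nat.eq_of_mul_eq_mul_left (by norm_num) this
    · intro hd
      have e3 : 27 * k ^ 2 + 9 * k + 1 = 3 * (9 * k ^ 2 + 3 * k) + 1 := by ring
      rw [e3] at hd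
      rcases (h3.dvd_mul).1 hd with hd | hd
      · rcases (h3.dvd_mul).1 hd with hd | hd
        · have := h3.dvd_of_dvd_pow hd
          omega
        · rcases (h3.dvd_mul).1 hd with hd | hd <;> omega
      · rcases (h3.dvd_mul).1 hd with hd | hd <;> omega
  · obtain ⟨k, rfl⟩ : ∃ k, q = 9 * k + 5 := ⟨q / 9, by omega⟩
    have e1 : (9 * k + 5) ^ 2 - 1 = 3 * ((3 * k + 2) * (9 * k + 4)) := by
      have : (9 * k + 5) ^ 2 = 3 * ((3 * k + 2) * (9 * k + 4)) + 1 := by ring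
      omega
    have e2 : (9 * k + 5) ^ 3 + 1 = 9 * ((3 * k + 2) * (27 * k ^ 2 + 27 * k + 7)) := by ring
    rw [e1, e2] at h
    refine fact_nine' (m := (9 * k + 5) ^ 3 * ((3 * k + 2) * (9 * k + 4)) *
      ((3 * k + 2) * (27 * k ^ 2 + 27 * k + 7))) ?_ ?_
    · have : 3 * N = 3 * (9 * ((9 * k + 5) ^ 3 * ((3 * k + 2) * (9 * k + 4)) *
        ((3 * k + 2) * (27 * k ^ 2 + 27 * k + 7)))) := by rw [h]; ring
      exact Nat.eq_of_mul_eq_mul_left (by norm_num) this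
    · intro hd
      have e3 : 27 * k ^ 2 + 27 * k + 7 = 3 * (9 * k ^ 2 + 9 * k + 2) + 1 := by ring
      rw [e3] at hd
      rcases (h3.dvd_mul).1 hd with hd | hd
      · rcases (h3.dvd_mul).1 hd with hd | hd
        · have := h3.dvd_of_dvd_pow hd
          omega
        · rcases (h3.dvd_mul).1 hd with hd | hd <;> omega
      · rcases (h3.dvd_mul).1 hd with hd | hd <;> omega

/-- **The row `PSU₃(q)`**, from a character of degree `±2` mod `9`. -/
theorem qrow_psu_of {F : Type v} [Field F] [Fintype F] {q : ℕ} (hF : Fintype.card F = q ^ 2)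
    (hq : q % 9 = 2 ∨ q % 9 = 5) {X : Type u} [Group X] [Finite X] (e : X ≃* PSU 3 F q)
    (hdeg : ∃ θ : IrrCharacter X, charDegree (θ : X → ℂ) % 9 = 2 ∨ charDegree (θ : X → ℂ) % 9 = 7) : QRow X := by
  obtain ⟨h3, w, c, hw, hc, hwq, hcq⟩ := exists_wu hF (by omega)
  have hcard := Num.psu3 (Cfsg.Agent.S0280.result hF 3 (by norm_num))
  have hg : Nat.gcd 3 (q + 1) = 3 := Nat.gcd_eq_left (by omega)
  rw [hg] at hcard
  have h9 := psu_num hq hcard
  rw [← Nat.card_congr e.toEquiv] at h9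
  refine qrow_mat (KillPSU.iota F 3 q) (fun k => mat_det k) (e.symm.toMonoidHom.comp (QuotientGroup.mk' _))
    (e.symm.surjective.comp (QuotientGroup.mk'_surjective _)) (fun k => ?_)
    hw h3 ⟨mk (mA w) (det_mA hw) (isoA hF hw hwq), rfl⟩ ⟨mk (mB F) det_mB (isoB hF), rfl⟩
    ⟨mk (mF w c) (det_mF hw hc) (isoF hF hw hc hwq hcq), rfl⟩ ⟨mk (mH w c) (det_mH hw hc) (isoH hF hw hc hwq hcq), rfl⟩
    h9 hdeg
  have h0 : (e.symm.toMonoidHom.comp (QuotientGroup.mk' (center (SU 3 F q)))) k = 1 ↔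
      (QuotientGroup.mk' (center (SU 3 F q))) k = 1 := by
    rw [MonoidHom.comp_apply]
    exact MulEquiv.map_eq_one_iff e.symm
  rw [h0, QuotientGroup.mk'_apply, QuotientGroup.eq_one_iff]
  constructor
  · intro hk
    obtain ⟨r, hr⟩ := (KillPSU.lin hF (by norm_num)).cen k hk
    exact ⟨r, by rw [hr, smul_one_eq_diagonal]⟩
  · rintro ⟨r, hr⟩
    exact (KillPSU.lin hF (by norm_num)).sc k r (by rw [hr, smul_one_eq_diagonal])

end Cfsg.Agent.H644.T9
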