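import Cfsg.Agent.Phan.Herm

/-!
# `SU₃(q)` is transitive on the nonzero vectors of a given norm (helper644)
-/

set_option autoImplicit false

namespace Cfsg.Agent.H644.T9

open Matrix Cfsg Cfsg.Agent.Phan Cfsg.Agent.LieClassical.HermBasic

variable {F : Type*} [Field F] [Fintype F] {q : ℕ}

/-- a second isotropic vector -/
theorem exists_hyp (hF : Fintype.card F = q ^ 2) {n : ℕ} {u : Fin n → F} (hu : u ≠ 0)
    (h0 : hermForm n F q u u = 0) : ∃ v : Fin n → F, hermForm n F q u v = 1 ∧ hermForm n F q v v = 0 := by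
  obtain ⟨i, hi⟩ := Function.ne_iff.1 hu
  have hi' : u i ≠ 0 := hi
  -- `w` with `(u, w) = 1`
  obtain ⟨w, hw⟩ : ∃ w : Fin n → F, hermForm n F q u w = 1 := by
    refine ⟨Pi.single i (((u i)⁻¹) ^ q), ?_⟩
    rw [herm_single_right hF, pow_q_pow_q hF, mul_inv_cancel₀ hi']
  obtain ⟨t, ht⟩ := exists_trace_eq hF (c := -hermForm n F q w w) (by
    rw [neg_pow_q hF, herm_self_pow hF])
  have hwu : hermForm n F q w u = 1 := by
    rw [herm_swap hF, hw, one_pow]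
  refine ⟨w + t • u, ?_, ?_⟩
  · rw [herm_add_right hF, herm_smul_right, hw, h0, mul_zero, add_zero]
  · rw [herm_add_left, herm_add_right hF, herm_add_right hF, herm_smul_right, herm_smul_left, herm_smul_left,
      herm_smul_right, hw, h0, hwu]
    linear_combination ht

/-- the matrix with given columns -/
def colM (u v w : Fin 3 → F) : Matrix (Fin 3) (Fin 3) F :=
  !![u 0, v 0, w 0; u 1, v 1, w 1; u 2, v 2, w 2]

omit [Fintype F] in
theorem colM_mulVec (u v w a : Fin 3 → F) : colM u v w *ᵥ a = a 0 • u + a 1 • v + a 2 • w := by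
  funext i
  fin_cases i <;> simp [colM, mulVec, dotProduct, Fin.sum_univ_three] <;> ring

/-- for an isotropic vector `u` there is a matrix of determinant one with first column `u` and a fixed Gram matrix -/
theorem exists_frame (hF : Fintype.card F = q ^ 2) {u : Fin 3 → F} (hu : u ≠ 0) (h0 : hermForm 3 F q u u = 0) :
    ∃ B : Matrix (Fin 3) (Fin 3) F, B.det = 1 ∧ B *ᵥ (Pi.single 0 1) = u ∧
      ∀ a b : Fin 3 → F, hermForm 3 F q (B *ᵥ a) (B *ᵥ b) = a 0 * b 1 ^ q + a 1 * b 0 ^ q - a 2 * b 2 ^ q := by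
  obtain ⟨v, huv, hvv⟩ := exists_hyp hF hu h0
  have hvu : hermForm 3 F q v u = 1 := by
    rw [herm_swap hF, huv, one_pow]
  let w : Fin 3 → F := ![-(u 1 * v 2 - u 2 * v 1) ^ q, -(u 2 * v 0 - u 0 * v 2) ^ q, -(u 0 * v 1 - u 1 * v 0) ^ q]
  have w0 : w 0 ^ q = -(u 1 * v 2 - u 2 * v 1) := by
    show (-(u 1 * v 2 - u 2 * v 1) ^ q) ^ q = _
    rw [neg_pow_q hF, pow_q_pow_q hF]
  have w1 : w 1 ^ q = -(u 2 * v 0 - u 0 * v 2) := by
    show (-(u 2 * v 0 - u 0 * v 2) ^ q) ^ q = _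
    rw [neg_pow_q hF, pow_q_pow_q hF]
  have w2 : w 2 ^ q = -(u 0 * v 1 - u 1 * v 0) := by
    show (-(u 0 * v 1 - u 1 * v 0) ^ q) ^ q = _
    rw [neg_pow_q hF, pow_q_pow_q hF]
  have e0 : w 0 = -(u 1 ^ q * v 2 ^ q - u 2 ^ q * v 1 ^ q) := by
    show -(u 1 * v 2 - u 2 * v 1) ^ q = _
    rw [sub_pow_q hF, mul_pow, mul_pow]
  have e1 : w 1 = -(u 2 ^ q * v 0 ^ q - u 0 ^ q * v 2 ^ q) := by
    show -(u 2 * v 0 - u 0 * v 2) ^ q = _
    rw [sub_pow_q hF, mul_pow, mul_pow]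
  have e2 : w 2 = -(u 0 ^ q * v 1 ^ q - u 1 ^ q * v 0 ^ q) := by
    show -(u 0 * v 1 - u 1 * v 0) ^ q = _
    rw [sub_pow_q hF, mul_pow, mul_pow]
  have huw : hermForm 3 F q u w = 0 := by
    rw [herm_def, Fin.sum_univ_three, w0, w1, w2]; ring
  have hvw : hermForm 3 F q v w = 0 := by
    rw [herm_def, Fin.sum_univ_three, w0, w1, w2]; ring
  have hwu : hermForm 3 F q w u = 0 := by
    rw [herm_swap hF, huw, zero_pow_q hF]
  have hwv : hermForm 3 F q w v = 0 := by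
    rw [herm_swap hF, hvw, zero_pow_q hF]
  have k1 := huv
  have k2 := hvu
  have k3 := h0
  have k4 := hvv
  rw [herm_def, Fin.sum_univ_three] at k1 k2 k3 k4
  have hww : hermForm 3 F q w w = -1 := by
    rw [herm_def, Fin.sum_univ_three, w0, w1, w2, e0, e1, e2]
    linear_combination (v 0 * v 0 ^ q + v 1 * v 1 ^ q + v 2 * v 2 ^ q) * k3 -
      (v 0 * u 0 ^ q + v 1 * u 1 ^ q + v 2 * u 2 ^ q) * k1 - k2
  refine ⟨colM u v w, ?_, ?_, ?_⟩
  · rw [colM, det_fin_three]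
    simp only [of_apply, cons_val', cons_val_zero, cons_val_one, cons_val]
    rw [e0, e1, e2]
    linear_combination (-(v 0 * v 0 ^ q + v 1 * v 1 ^ q + v 2 * v 2 ^ q)) * k3 +
      (v 0 * u 0 ^ q + v 1 * u 1 ^ q + v 2 * u 2 ^ q) * k1 + k2
  · rw [colM_mulVec]
    simp
  · intro a b
    rw [colM_mulVec, colM_mulVec]
    simp only [herm_add_left, herm_add_right hF, herm_smul_left, herm_smul_right, h0, huv, hvv, hvu, huw, hvw, hwu, hwv,
      hww]
    ring

/-- `SU₃(q)` is transitive on the nonzero isotropic vectors -/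
theorem su_trans_iso (hF : Fintype.card F = q ^ 2) {u v : Fin 3 → F} (hu : u ≠ 0) (hv : v ≠ 0)
    (hu0 : hermForm 3 F q u u = 0) (hv0 : hermForm 3 F q v v = 0) : ∃ g : SU 3 F q, mat g *ᵥ u = v := by
  obtain ⟨B, hB, hBu, hBf⟩ := exists_frame hF hu hu0
  obtain ⟨C, hC, hCv, hCf⟩ := exists_frame hF hv hv0
  have hunit : IsUnit B.det := by rw [hB]; exact isUnit_one
  refine ⟨mk (C * B⁻¹) ?_ ?_, ?_⟩
  · rw [det_mul, hC, one_mul, det_nonsing_inv, hB, Ring.inverse_one]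
  · intro x y
    have hx : x = B *ᵥ (B⁻¹ *ᵥ x) := by rw [mulVec_mulVec, mul_nonsing_inv _ hunit, one_mulVec]
    have hy : y = B *ᵥ (B⁻¹ *ᵥ y) := by rw [mulVec_mulVec, mul_nonsing_inv _ hunit, one_mulVec]
    rw [← mulVec_mulVec, ← mulVec_mulVec, hCf]
    conv_rhs => rw [hx, hy, hBf]
  · rw [mat_mk, ← mulVec_mulVec, ← hBu, mulVec_mulVec (Pi.single 0 1) B⁻¹ B, nonsing_inv_mul _ hunit, one_mulVec]
    exact hCv

/-- **Transitivity.** -/
theorem su_trans (hF : Fintype.card F = q ^ 2) {u v : Fin 3 → F} (hu : u ≠ 0) (hv : v ≠ 0)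
    (h : hermForm 3 F q u u = hermForm 3 F q v v) :
    ∃ g : SU 3 F q, ((g : SpecialLinearGroup (Fin 3) F) : Matrix (Fin 3) (Fin 3) F) *ᵥ u = v := by
  by_cases h0 : hermForm 3 F q u u = 0
  · exact su_trans_iso hF hu hv h0 (h ▸ h0)
  · exact exists_su_map (n := 1) hF h h0

end Cfsg.Agent.H644.T9
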