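import Cfsg.Agent.H629.T9.Defs
import Cfsg.Agent.H356.NInv
import Cfsg.Agent.H356.KillPSU
import Cfsg.Agent.H356.KillPSp
import Cfsg.Agent.OrdDiv.Main
import Cfsg.Agent.S0292
import Cfsg.Agent.S0293
import Cfsg.Agent.S0294

/-!
# S4876 (T9d), the table: the groups of Lie type and the alternating groups (helper644)

`Nine K` : the order of `K` is divisible by `9`, not by `27`, and `K` has no element of order `9`.
-/

set_option autoImplicit false

namespace Cfsg.Agent.H644.T9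

open Cfsg Subgroup Cfsg.Agent.H629.T9 Cfsg.Agent.H356 Cfsg.Agent.H356.NInv Cfsg.Agent.H356.SLTwo
  Cfsg.Agent.H356.SLTorus Cfsg.Agent.OrdDiv

universe u v

/-- the criterion -/
theorem notFree_of {X : Type u} [Group X] {x y h : X} (hx : x ^ 3 = 1) (hx1 : x ≠ 1) (hy : y ^ 3 = 1) (hy1 : y ≠ 1)
    (hxy : x * y = y * x) (hh : h * x = x * h) (hi : h * y = y ^ 2 * h) : NotFree X := by
  have : Fact (Nat.Prime 3) := ⟨Nat.prime_three⟩
  have hy2 : y ^ 2 = y⁻¹ := by
    rw [eq_inv_iff_mul_eq_one, ← pow_succ]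
    exact hy
  have hinv : h * y * h⁻¹ = y⁻¹ := by rw [hi, mul_inv_cancel_right, hy2]
  refine ⟨x, y, h, orderOf_eq_prime hx hx1, orderOf_eq_prime hy hy1, hxy, ?_, hh, hinv⟩
  intro hm
  obtain ⟨k, hk⟩ := mem_zpowers_iff.1 hm
  have h1 : h * y = y * h := by
    rw [← hk]
    exact (show Commute h x from hh).zpow_right k
  have h2 : y⁻¹ = y := by rw [← hinv, h1, mul_inv_cancel_right]
  have h3 : y * y = y * 1 := by rw [← pow_two, hy2, h2, mul_one]
  exact hy1 (mul_left_cancel h3)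

theorem notFree_of_hasInv {K : Type u} [Group K] (h : HasInv 2 K) : NotFree K := by
  obtain ⟨x, t, h3, h1, hinv, hxx, htx⟩ := h
  refine notFree_of (x := x 0) (y := x 1) (h := t 1) (h3 0) (h1 0) (h3 1) (h1 1) (hxx 0 1) (htx 1 0 (by decide)) ?_
  have h2 : x 1 ^ 2 = (x 1)⁻¹ := by
    rw [eq_inv_iff_mul_eq_one, ← pow_succ]
    exact h3 1
  rw [h2, ← hinv 1, inv_mul_cancel_right]

/-- order divisible by `9`, not by `27`, no elements of order `9` -/
structure Nine (K : Type u) [Group K] : Prop where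
  dvd : 9 ∣ Nat.card K
  ndvd : ¬ 27 ∣ Nat.card K
  nine : ∀ x : K, orderOf x ≠ 9

theorem Nine.of_equiv {K : Type u} {L : Type v} [Group K] [Group L] (e : K ≃* L) (h : Nine K) : Nine L where
  dvd := by rw [← Nat.card_congr e.toEquiv]; exact h.dvd
  ndvd := by rw [← Nat.card_congr e.toEquiv]; exact h.ndvd
  nine x hx := h.nine (e.symm x) (by rw [MulEquiv.orderOf_eq]; exact hx)

theorem Nine.of_sylow {K : Type u} [Group K] [Finite K] {P : Sylow 3 K} (hc : Nat.card (P : Subgroup K) = 9)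
    (hn : ¬ IsCyclic (P : Subgroup K)) : Nine K := by
  have h3 : Fact (Nat.Prime 3) := ⟨Nat.prime_three⟩
  have hcp := P.card_eq_multiplicity
  rw [hc] at hcp
  have hf : (Nat.card K).factorization 3 = 2 := by
    have : 3 ^ 2 = 3 ^ (Nat.card K).factorization 3 := by rw [← hcp]; norm_num
    exact (Nat.pow_right_injective (le_refl 2 |>.trans (by norm_num)) this).symm
  refine ⟨?_, ?_, ?_⟩
  · have := Subgroup.card_subgroup_dvd_card (P : Subgroup K)
    rwa [hc] at this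
  · intro h27
    have h1 := (Nat.prime_three.pow_dvd_iff_le_factorization (k := 3) Nat.card_pos.ne').1 h27
    omega
  · intro x hx
    have hp : IsPGroup 3 (zpowers x) := IsPGroup.of_card (n := 2) (by rw [Nat.card_zpowers, hx]; norm_num)
    obtain ⟨Q, hQ⟩ := hp.exists_le_sylow
    have hcQ : Nat.card (Q : Subgroup K) = 9 := by rw [Q.card_eq_multiplicity, hf]; norm_num
    have hQe : zpowers x = (Q : Subgroup K) := by
      refine Subgroup.eq_of_le_of_card_ge hQ ?_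
      rw [Nat.card_zpowers, hx, hcQ]
    have hQc : IsCyclic (Q : Subgroup K) := by
      rw [← hQe]
      infer_instance
    apply hn
    have e := Q.equiv P
    exact isCyclic_of_surjective e.toMonoidHom e.surjective

/-- no `SL₂(q)` with `q² = 1 mod 9` -/
theorem Nine.false_sl {K : Type u} [Group K] (h : Nine K) {F : Type*} [Field F] [Fintype F] (h3 : (3 : F) ≠ 0)
    (h9 : 9 ∣ Fintype.card F ^ 2 - 1) {H : Type*} [Group H] (π : H →* K) (hker : π.ker ≤ center H)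
    (f : Matrix.SpecialLinearGroup (Fin 2) F →* H) (hf : Function.Injective f) : False := by
  obtain ⟨A, -, -, a, -, ha⟩ := exists_one (F := F) h3 (n := 2) (by rw [Nat.card_eq_fintype_card]; exact h9) π hker f hf
  exact h.nine a ha

theorem Nine.congr_card {K : Type u} [Group K] (h : Nine K) {n : ℕ} (hn : Nat.card K = n) (hd : 27 ∣ n) : False :=
  h.ndvd (hn ▸ hd)

/-! ### arithmetic -/

theorem nine_cop {a b : ℕ} {k : ℕ} (hb : b % 3 ≠ 0) (h : 3 ^ k ∣ a * b) : 3 ^ k ∣ a :=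
  (Num.cop3 hb k).dvd_of_dvd_mul_right h

theorem pow_mod_zero {q k : ℕ} (hq : q % 3 = 0) (hk : 1 ≤ k) : q ^ k % 3 = 0 := by
  obtain ⟨j, rfl⟩ : ∃ j, k = j + 1 := ⟨k - 1, by omega⟩
  rw [pow_succ, Nat.mul_mod, hq, mul_zero, Nat.zero_mod]

theorem cube_dvd {q k : ℕ} (hq : q % 3 = 0) (hk : 3 ≤ k) : 27 ∣ q ^ k := by
  have h1 : 3 ^ 3 ∣ q ^ 3 := pow_dvd_pow_of_dvd (Nat.dvd_of_mod_eq_zero hq) 3
  exact (by norm_num : 27 = 3 ^ 3) ▸ h1.trans (pow_dvd_pow q hk)

theorem sub_mod {q k : ℕ} (hq : q % 3 = 0) (h1 : 1 < q) (hk : 1 ≤ k) : (q ^ k - 1) % 3 ≠ 0 := by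
  have h2 := pow_mod_zero hq hk
  have h3 : 1 ≤ q ^ k := Nat.one_le_pow _ _ (by omega)
  omega

/-- `q² - 1`, ... are divisible by three -/
theorem three_dvd_even {q : ℕ} (hq : q % 3 ≠ 0) (k : ℕ) : 3 ∣ q ^ (2 * k) - 1 := by
  apply Num.sub_one
  · exact Nat.one_le_pow _ _ (by omega)
  · rw [pow_mul, Nat.pow_mod, Num.sq_mod hq, one_pow]

/-- the product of `q^(2i) - 1`, `i ≤ 3` -/
theorem dvd_prod_three {q n : ℕ} (hq : q % 3 ≠ 0) (hn : 3 ≤ n) :
    27 ∣ ∏ i ∈ Finset.range n, (q ^ (2 * (i + 1)) - 1) := by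
  have h1 : ∏ i ∈ Finset.range 3, 3 ∣ ∏ i ∈ Finset.range 3, (q ^ (2 * (i + 1)) - 1) :=
    Finset.prod_dvd_prod_of_dvd _ _ fun i _ => three_dvd_even hq (i + 1)
  have h2 : ∏ i ∈ Finset.range 3, 3 = 27 := by decide
  rw [h2] at h1
  exact h1.trans (Finset.prod_dvd_prod_of_subset _ _ _ (Finset.range_subset_range.2 hn))

theorem gcd_dvd27 {n a c N : ℕ} (hn : n % 3 ≠ 0) (h : Nat.gcd n a * c = N) (hN : 27 ∣ N) : 27 ∣ c := by
  rw [← h] at hN
  exact (Num.cop_gcd hn 3).dvd_of_dvd_mul_left hN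

/-! ### `PSL_n(q)` -/

theorem psl_row {F : Type*} [Field F] [Fintype F] {n : ℕ} (hn : 2 ≤ n)
    (h : Nine (Matrix.ProjectiveSpecialLinearGroup (Fin n) F)) :
    NotFree (Matrix.ProjectiveSpecialLinearGroup (Fin n) F) ∨ (n = 2 ∧ Fintype.card F = 9) ∨
      (n = 3 ∧ (Fintype.card F % 9 = 4 ∨ Fintype.card F % 9 = 7)) := by
  have hq : 1 < Fintype.card F := Fintype.one_lt_card
  have hd := h.dvd
  have hn27 := h.ndvd
  have hn' : n = 2 ∨ n = 3 ∨ 4 ≤ n := by omega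
  rcases hn' with rfl | rfl | h4
  · right; left
    refine ⟨rfl, ?_⟩
    have hc := Num.psl2 hq (Cfsg.Agent.S0243.result (F := F) rfl 2 le_rfl)
    have h9 : 3 ^ 2 ∣ Fintype.card F * (Fintype.card F ^ 2 - 1) := hc ▸ dvd_mul_of_dvd_right hd _
    by_cases h0 : Fintype.card F % 3 = 0
    · have h1 := nine_cop (sub_mod h0 hq (k := 2) (by norm_num)) h9
      obtain ⟨m, hm, hF⟩ := KillPSL.exists_pow_of h0
      rw [hF, Nat.pow_dvd_pow_iff_le_right (by norm_num)] at h1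
      have h2 : ¬ 3 ≤ m := by
        intro h2
        apply hn27
        have h3 : 3 ^ 3 ∣ Fintype.card F := by
          rw [hF]
          exact Nat.pow_dvd_pow _ h2
        exact gcd_dvd27 (n := 2) (by norm_num) hc (dvd_mul_of_dvd_left h3 _)
      have h3 : m = 2 := by omega
      rw [hF, h3]
      norm_num
    · exfalso
      have h1 : 3 ^ 2 ∣ Fintype.card F ^ 2 - 1 := (Num.cop3 h0 2).dvd_of_dvd_mul_left h9
      exact h.false_sl (KillPSL.three_ne_zero_of h0) h1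
        (QuotientGroup.mk' (center (Matrix.SpecialLinearGroup (Fin 2) F))) (by rw [QuotientGroup.ker_mk'])
        (MonoidHom.id _) Function.injective_id
  · have hc := Num.psl3 hq (Cfsg.Agent.S0243.result (F := F) rfl 3 (by norm_num))
    have h012 : Fintype.card F % 3 = 0 ∨ Fintype.card F % 3 = 1 ∨ Fintype.card F % 3 = 2 := by omega
    rcases h012 with h0 | h1 | h2
    · exfalso
      apply hn27
      have h1 : 27 ∣ Nat.gcd 3 (Fintype.card F - 1) * Nat.card (Matrix.ProjectiveSpecialLinearGroup (Fin 3) F) := by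
        rw [hc]
        exact dvd_mul_of_dvd_left (dvd_mul_of_dvd_left (cube_dvd h0 le_rfl) _) _
      have h2 : Nat.Coprime (3 ^ 3) (Fintype.card F - 1) := Num.cop3 (by omega) 3
      exact (Nat.Coprime.coprime_dvd_right (Nat.gcd_dvd_right _ _) h2).dvd_of_dvd_mul_left h1
    · right; right
      refine ⟨rfl, ?_⟩
      by_contra hno
      have h3 : Fintype.card F % 9 = 1 := by omega
      apply hn27
      have hg : Nat.gcd 3 (Fintype.card F - 1) = 3 := Nat.gcd_eq_left (by omega)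
      rw [hg] at hc
      have e1 : 9 ∣ Fintype.card F ^ 2 - 1 := by
        apply Num.sub_one (Nat.one_le_pow _ _ (by omega))
        rw [Nat.pow_mod, h3]
      have e2 := Num.nine_dvd_cube h1
      have e3 : 9 * 9 ∣ 3 * Nat.card (Matrix.ProjectiveSpecialLinearGroup (Fin 3) F) := by
        rw [hc, mul_assoc]
        exact dvd_mul_of_dvd_right (mul_dvd_mul e1 e2) _
      exact Nat.dvd_of_mul_dvd_mul_left (k := 3) (by norm_num) (by norm_num; exact e3)
    · exfalso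
      have h9 : 3 ^ 2 ∣ Fintype.card F ^ 3 * (Fintype.card F ^ 2 - 1) * (Fintype.card F ^ 3 - 1) :=
        hc ▸ dvd_mul_of_dvd_right hd _
      have e : Fintype.card F ^ 3 % 3 = 2 := by simp [Nat.pow_mod, h2]
      have h3 := nine_cop (b := Fintype.card F ^ 3 - 1) (by omega) h9
      have h4 : 3 ^ 2 ∣ Fintype.card F ^ 2 - 1 := (Num.cop3 (by omega) 2).dvd_of_dvd_mul_left h3
      have hb : 2 * 1 ≤ 3 := by norm_num
      exact h.false_sl (KillPSL.three_ne_zero_of (by omega)) h4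
        (QuotientGroup.mk' (center (Matrix.SpecialLinearGroup (Fin 3) F))) (by rw [QuotientGroup.ker_mk'])
        (KillPSL.f hb 0) (KillPSL.f_injective hb 0)
  · by_cases h0 : Fintype.card F % 3 = 0
    · exact absurd ((by norm_num : 27 ∣ 243).trans (KillPSL.not_four_zero h4 h0)) hn27
    · left
      have hb : 2 * 2 ≤ n := h4
      have h1 : HasInv 2 (Matrix.SpecialLinearGroup (Fin n) F) :=
        hasInv_of_homs (K := fun _ => F) (fun _ => KillPSL.three_ne_zero_of h0) (fun i => KillPSL.f hb i)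
          (fun i => KillPSL.f_ne_one hb i) (fun i j hij => KillPSL.f_comm hb hij)
      exact notFree_of_hasInv h1.quot

/-! ### `PSp_{2m}(q)` -/

theorem psp_row {F : Type*} [Field F] [Fintype F] {m : ℕ} (hm : 2 ≤ m) (h : Nine (PSp m F)) : NotFree (PSp m F) := by
  by_cases h0 : Fintype.card F % 3 = 0
  · exfalso
    apply h.ndvd
    refine gcd_dvd27 (n := 2) (by norm_num) (KillPSp.card (F := F) (m := m) (by omega)) ?_
    exact dvd_mul_of_dvd_left (cube_dvd h0 (by nlinarith)) _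
  · have h1 : HasInv 2 (Matrix.symplecticGroup (Fin m) F) :=
      hasInv_of_homs (K := fun _ => F) (fun _ => KillPSL.three_ne_zero_of h0)
        (fun i => KillPSp.f (⟨i, by omega⟩ : Fin m))
        (fun i => KillPSp.f_ne_one _) (fun i j hij => KillPSp.f_comm (by
          intro h
          apply hij
          exact Fin.ext (show (i : ℕ) = j from congrArg (fun z : Fin m => (z : ℕ)) h)))
    exact notFree_of_hasInv h1.quot

/-! ### `PSU_n(q)` -/

theorem psu_row {F : Type*} [Field F] [Fintype F] {n q : ℕ} (hF : Fintype.card F = q ^ 2) (hn : 3 ≤ n)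
    (h : Nine (PSU n F q)) : NotFree (PSU n F q) ∨ (n = 3 ∧ (q % 9 = 2 ∨ q % 9 = 5)) := by
  have hd := h.dvd
  have hn27 := h.ndvd
  have hq0 : 0 < q := by
    rcases Nat.eq_zero_or_pos q with h0 | h0
    · rw [h0] at hF
      simp at hF
    · exact h0
  obtain ⟨K, _, _, hK, hf⟩ := KillPSU.exists_blocks hF
  obtain ⟨f, hi, hc'⟩ := hf n
  have hn' : n = 3 ∨ 4 ≤ n := by omega
  rcases hn' with rfl | h4
  · right
    refine ⟨rfl, ?_⟩
    have hc := Num.psu3 (Cfsg.Agent.S0280.result hF 3 (by norm_num))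
    have h012 : q % 3 = 0 ∨ q % 3 = 1 ∨ q % 3 = 2 := by omega
    rcases h012 with h0 | h1 | h2
    · exfalso
      apply hn27
      have h1 : 27 ∣ Nat.gcd 3 (q + 1) * Nat.card (PSU 3 F q) := by
        rw [hc]
        exact dvd_mul_of_dvd_left (dvd_mul_of_dvd_left (cube_dvd h0 le_rfl) _) _
      have h2 : Nat.Coprime (3 ^ 3) (q + 1) := Num.cop3 (by omega) 3
      exact (Nat.Coprime.coprime_dvd_right (Nat.gcd_dvd_right _ _) h2).dvd_of_dvd_mul_left h1
    · exfalso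
      have h9 : 3 ^ 2 ∣ q ^ 3 * (q ^ 2 - 1) * (q ^ 3 + 1) := hc ▸ dvd_mul_of_dvd_right hd _
      have e : q ^ 3 % 3 = 1 := by simp [Nat.pow_mod, h1]
      have h3 := nine_cop (b := q ^ 3 + 1) (by omega) h9
      have h4 : 3 ^ 2 ∣ q ^ 2 - 1 := (Num.cop3 (by omega) 2).dvd_of_dvd_mul_left h3
      exact h.false_sl (F := K) (KillPSL.three_ne_zero_of (by rw [hK]; omega)) (by rw [hK]; exact h4)
        (QuotientGroup.mk' (center (SU 3 F q))) (by rw [QuotientGroup.ker_mk']) (f 0 (by omega)) (hi _ _)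
    · by_contra hno
      have h3 : q % 9 = 8 := by omega
      apply hn27
      have hg : Nat.gcd 3 (q + 1) = 3 := Nat.gcd_eq_left (by omega)
      rw [hg] at hc
      have e1 : 9 ∣ q ^ 2 - 1 := by
        apply Num.sub_one (Nat.one_le_pow _ _ hq0)
        rw [Nat.pow_mod, h3]
      have e2 := Num.nine_dvd_cube' h2
      have e3 : 9 * 9 ∣ 3 * Nat.card (PSU 3 F q) := by
        rw [hc, mul_assoc]
        exact dvd_mul_of_dvd_right (mul_dvd_mul e1 e2) _
      exact Nat.dvd_of_mul_dvd_mul_left (k := 3) (by norm_num) (by norm_num; exact e3)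
  · by_cases h0 : q % 3 = 0
    · exact absurd ((by norm_num : 27 ∣ 243).trans
        (Num.psun_zero h4 h0 hq0 _ (Cfsg.Agent.S0280.result hF n (by omega)))) hn27
    · left
      have h3' : (3 : K) ≠ 0 := KillPSL.three_ne_zero_of (by rw [hK]; exact h0)
      have hne : ∀ k h, f k h (X3 K) ≠ 1 := fun k h h1 => X3_ne_one (hi k h (h1.trans (map_one _).symm))
      have h1 : HasInv 2 (SU n F q) :=
        hasInv_of_homs (K := fun _ => K) (fun _ => h3') (fun i => f (2 * i) (by omega)) (fun i => hne _ _) (by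
          intro i j hij a b
          rcases Nat.lt_or_ge i j with h1 | h1
          · exact hc' _ _ _ _ (by omega) a b
          · have : (j : ℕ) < i := lt_of_le_of_ne h1 fun e => hij (Fin.ext e.symm)
            exact (hc' _ _ _ _ (by omega) b a).symm)
      exact notFree_of_hasInv h1.quot

/-! ### the orthogonal groups -/

theorem odd_row {F : Type*} [Field F] [Fintype F] {m : ℕ} (hm : 3 ≤ m) (hodd : Odd (Fintype.card F)) :
    27 ∣ Nat.card (POmega F (quadFormOdd m F)) := by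
  have hc := Cfsg.Agent.S0292.result (F := F) rfl hodd m hm
  have h2 : Nat.Coprime (3 ^ 3) 2 := by norm_num
  refine h2.dvd_of_dvd_mul_left ?_
  rw [hc]
  by_cases h0 : Fintype.card F % 3 = 0
  · exact dvd_mul_of_dvd_left (cube_dvd h0 (by nlinarith)) _
  · exact dvd_mul_of_dvd_right (dvd_prod_three h0 hm) _

theorem plus_row {F : Type*} [Field F] [Fintype F] {m : ℕ} (hm : 4 ≤ m) :
    27 ∣ Nat.card (POmega F (quadFormPlus m F)) := by
  refine gcd_dvd27 (n := 4) (by norm_num) (Cfsg.Agent.S0293.result (F := F) rfl m hm) ?_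
  by_cases h0 : Fintype.card F % 3 = 0
  · exact dvd_mul_of_dvd_left (dvd_mul_of_dvd_left (cube_dvd h0 (by
      calc 3 ≤ 4 * 3 := by norm_num
        _ ≤ m * (m - 1) := Nat.mul_le_mul hm (by omega))) _) _
  · exact dvd_mul_of_dvd_right (dvd_prod_three h0 (by omega)) _

theorem minus_row {F : Type*} [Field F] [Fintype F] {m : ℕ} (hm : 4 ≤ m) (a b : F)
    (hab : ∀ z₁ z₂ : F, z₁ ^ 2 + a * z₁ * z₂ + b * z₂ ^ 2 = 0 → z₁ = 0 ∧ z₂ = 0) :
    27 ∣ Nat.card (POmega F (quadFormMinus (m - 1) F a b)) := by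
  refine gcd_dvd27 (n := 4) (by norm_num) (Cfsg.Agent.S0294.result (F := F) rfl m hm a b hab) ?_
  by_cases h0 : Fintype.card F % 3 = 0
  · exact dvd_mul_of_dvd_left (dvd_mul_of_dvd_left (cube_dvd h0 (by
      calc 3 ≤ 4 * 3 := by norm_num
        _ ≤ m * (m - 1) := Nat.mul_le_mul hm (by omega))) _) _
  · exact dvd_mul_of_dvd_right (dvd_prod_three h0 (by omega)) _

/-! ### the exceptional groups -/

theorem nine_dvd_six {q : ℕ} (hq : q % 3 ≠ 0) : 9 ∣ q ^ 6 - 1 := by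
  apply Num.sub_one
  · exact Nat.one_le_pow _ _ (by omega)
  · have h : q % 9 = 1 ∨ q % 9 = 2 ∨ q % 9 = 4 ∨ q % 9 = 5 ∨ q % 9 = 7 ∨ q % 9 = 8 := by omega
    rcases h with h | h | h | h | h | h <;> simp [Nat.pow_mod, h]

theorem nine_dvd_twelve {q : ℕ} (hq : q % 3 ≠ 0) : 9 ∣ q ^ 12 - 1 := by
  have h : q ^ 12 - 1 = (q ^ 6 - 1) * (q ^ 6 + 1) := by
    rw [show q ^ 12 = (q ^ 6) ^ 2 by ring, show (1 : ℕ) = 1 ^ 2 by norm_num, Nat.sq_sub_sq]
    ring_nf
  rw [h]
  exact dvd_mul_of_dvd_left (nine_dvd_six hq) _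

theorem pow_four_dvd {q k : ℕ} (hq : q % 3 = 0) (hk : 4 ≤ k) : 81 ∣ q ^ k := by
  have h1 : 3 ^ 4 ∣ q ^ 4 := pow_dvd_pow_of_dvd (Nat.dvd_of_mod_eq_zero hq) 4
  exact (by norm_num : 81 = 3 ^ 4) ▸ h1.trans (pow_dvd_pow q hk)

theorem gcd_three {a c N : ℕ} (h : Nat.gcd 3 a * c = N) (hN : 81 ∣ N) : 27 ∣ c := by
  rw [← h] at hN
  rcases (Nat.dvd_prime Nat.prime_three).1 (Nat.gcd_dvd_left 3 a) with h1 | h1
  · rw [h1, one_mul] at hN
    exact (by norm_num : 27 ∣ 81).trans hN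
  · rw [h1] at hN
    exact Nat.dvd_of_mul_dvd_mul_left (k := 3) (by norm_num) (by norm_num; exact hN)

theorem g2_row (q : ℕ) : 27 ∣ q ^ 6 * (q ^ 2 - 1) * (q ^ 6 - 1) := by
  by_cases h0 : q % 3 = 0
  · exact dvd_mul_of_dvd_left (dvd_mul_of_dvd_left (cube_dvd h0 (by norm_num)) _) _
  · rw [mul_assoc]
    exact dvd_mul_of_dvd_right (mul_dvd_mul (a := 3) (c := 9) (three_dvd_even h0 1) (nine_dvd_six h0)) _

theorem f4_row (q : ℕ) : 27 ∣ q ^ 24 * (q ^ 2 - 1) * (q ^ 6 - 1) * (q ^ 8 - 1) * (q ^ 12 - 1) := by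
  refine dvd_mul_of_dvd_left (dvd_mul_of_dvd_left ?_ _) _
  by_cases h0 : q % 3 = 0
  · exact dvd_mul_of_dvd_left (dvd_mul_of_dvd_left (cube_dvd h0 (by norm_num)) _) _
  · rw [mul_assoc]
    exact dvd_mul_of_dvd_right (mul_dvd_mul (a := 3) (c := 9) (three_dvd_even h0 1) (nine_dvd_six h0)) _

theorem e6_row (q : ℕ) (A B C : ℕ) : 81 ∣ q ^ 36 * (q ^ 2 - 1) * A * (q ^ 6 - 1) * B * C * (q ^ 12 - 1) := by
  by_cases h0 : q % 3 = 0
  · exact dvd_mul_of_dvd_left (dvd_mul_of_dvd_left (dvd_mul_of_dvd_left (dvd_mul_of_dvd_left (dvd_mul_of_dvd_left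
      (dvd_mul_of_dvd_left (pow_four_dvd h0 (by norm_num)) _) _) _) _) _) _
  · have h1 : 9 * 9 ∣ (q ^ 6 - 1) * (q ^ 12 - 1) := mul_dvd_mul (nine_dvd_six h0) (nine_dvd_twelve h0)
    have h2 : q ^ 36 * (q ^ 2 - 1) * A * (q ^ 6 - 1) * B * C * (q ^ 12 - 1) =
      (q ^ 36 * (q ^ 2 - 1) * A * B * C) * ((q ^ 6 - 1) * (q ^ 12 - 1)) := by ring
    rw [h2]
    exact dvd_mul_of_dvd_right h1 _

theorem e7_row (q : ℕ) : 27 ∣ q ^ 63 * (q ^ 2 - 1) * (q ^ 6 - 1) * (q ^ 8 - 1) *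
      (q ^ 10 - 1) * (q ^ 12 - 1) * (q ^ 14 - 1) * (q ^ 18 - 1) := by
  refine dvd_mul_of_dvd_left (dvd_mul_of_dvd_left (dvd_mul_of_dvd_left (dvd_mul_of_dvd_left
    (dvd_mul_of_dvd_left ?_ _) _) _) _) _
  by_cases h0 : q % 3 = 0
  · exact dvd_mul_of_dvd_left (dvd_mul_of_dvd_left (cube_dvd h0 (by norm_num)) _) _
  · rw [mul_assoc]
    exact dvd_mul_of_dvd_right (mul_dvd_mul (a := 3) (c := 9) (three_dvd_even h0 1) (nine_dvd_six h0)) _

theorem e8_row (q : ℕ) : 27 ∣ q ^ 120 * (q ^ 2 - 1) * (q ^ 8 - 1) * (q ^ 12 - 1) * (q ^ 14 - 1) *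
      (q ^ 18 - 1) * (q ^ 20 - 1) * (q ^ 24 - 1) * (q ^ 30 - 1) := by
  refine dvd_mul_of_dvd_left (dvd_mul_of_dvd_left (dvd_mul_of_dvd_left (dvd_mul_of_dvd_left
    (dvd_mul_of_dvd_left ?_ _) _) _) _) _
  by_cases h0 : q % 3 = 0
  · exact dvd_mul_of_dvd_left (dvd_mul_of_dvd_left (dvd_mul_of_dvd_left (cube_dvd h0 (by norm_num)) _) _) _
  · have h2 : q ^ 120 * (q ^ 2 - 1) * (q ^ 8 - 1) * (q ^ 12 - 1) =
      (q ^ 120 * (q ^ 8 - 1)) * ((q ^ 2 - 1) * (q ^ 12 - 1)) := by ring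
    rw [h2]
    exact dvd_mul_of_dvd_right (mul_dvd_mul (a := 3) (c := 9) (three_dvd_even h0 1) (nine_dvd_twelve h0)) _

theorem td4_row (q A : ℕ) : 27 ∣ q ^ 12 * (q ^ 2 - 1) * (q ^ 6 - 1) * A := by
  refine dvd_mul_of_dvd_left ?_ _
  by_cases h0 : q % 3 = 0
  · exact dvd_mul_of_dvd_left (dvd_mul_of_dvd_left (cube_dvd h0 (by norm_num)) _) _
  · rw [mul_assoc]
    exact dvd_mul_of_dvd_right (mul_dvd_mul (a := 3) (c := 9) (three_dvd_even h0 1) (nine_dvd_six h0)) _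

theorem two_pow_mod (m : ℕ) : 2 ^ (2 * m + 1) % 3 = 2 := by
  rw [pow_succ, pow_mul, Nat.mul_mod, Nat.pow_mod]
  norm_num

theorem sz_row {q : ℕ} (h : q % 3 = 2) : ¬ 3 ∣ q ^ 2 * (q - 1) * (q ^ 2 + 1) := by
  intro h3
  have hq2 : q ^ 2 % 3 = 1 := Num.sq_mod (by omega)
  rcases (Nat.Prime.dvd_mul Nat.prime_three).1 h3 with h4 | h4
  · rcases (Nat.Prime.dvd_mul Nat.prime_three).1 h4 with h5 | h5
    · omega
    · omega
  · omega

theorem tf4_row {q : ℕ} (h : q % 3 = 2) : 27 ∣ q ^ 12 * (q - 1) * (q ^ 3 + 1) * (q ^ 4 - 1) * (q ^ 6 + 1) := by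
  have h2 : q ^ 12 * (q - 1) * (q ^ 3 + 1) * (q ^ 4 - 1) * (q ^ 6 + 1) =
      (q ^ 12 * (q - 1) * (q ^ 6 + 1)) * ((q ^ 4 - 1) * (q ^ 3 + 1)) := by ring
  rw [h2]
  exact dvd_mul_of_dvd_right (mul_dvd_mul (a := 3) (c := 9) (three_dvd_even (by omega) 2) (Num.nine_dvd_cube' h)) _

theorem exc_row (T : OrderTable.{u}) {K : Type u} [Group K] (hK : IsExceptionalLieType K) (h : Nine K) : False := by
  rcases hK with h1 | h1 | h1 | h1 | h1 | h1 | h1 | h1 | h1 | h1 | h1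
  · obtain ⟨F, _, _, hF, ⟨e⟩⟩ := h1
    exact (h.of_equiv e).congr_card (T.g2 F) (g2_row _)
  · obtain ⟨F, _, _, ⟨e⟩⟩ := h1
    exact (h.of_equiv e).congr_card (T.f4 F _ rfl) (f4_row _)
  · obtain ⟨F, _, _, ⟨e⟩⟩ := h1
    exact (h.of_equiv e).ndvd (gcd_three (T.e6 F _ rfl) (e6_row _ _ _ _))
  · obtain ⟨F, _, _, ⟨e⟩⟩ := h1
    exact (h.of_equiv e).ndvd (gcd_dvd27 (n := 2) (by norm_num) (T.e7 F _ rfl) (e7_row _))
  · obtain ⟨F, _, _, ⟨e⟩⟩ := h1
    exact (h.of_equiv e).congr_card (T.e8 F _ rfl) (e8_row _)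
  · obtain ⟨F, _, _, q, hq, hF, ⟨e⟩⟩ := h1
    exact (h.of_equiv e).ndvd (gcd_three (T.te6 F q hq hF) (e6_row _ _ _ _))
  · obtain ⟨F, _, _, q, hq, hF, ⟨e⟩⟩ := h1
    exact (h.of_equiv e).congr_card (T.td4 F q hq hF) (td4_row _ _)
  · obtain ⟨F, _, _, m, hm, hF, ⟨e⟩⟩ := h1
    have h2 := (h.of_equiv e).dvd
    rw [T.sz F m hm hF] at h2
    exact sz_row (two_pow_mod m) ((by norm_num : 3 ∣ 9).trans h2)
  · obtain ⟨F, _, _, m, hm, hF, ⟨e⟩⟩ := h1
    refine (h.of_equiv e).congr_card (T.ree F m hm hF) ?_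
    refine dvd_mul_of_dvd_left (dvd_mul_of_dvd_left (cube_dvd ?_ le_rfl) _) _
    exact pow_mod_zero (q := 3) (by norm_num) (by omega)
  · obtain ⟨F, _, _, m, hm, hF, ⟨e⟩⟩ := h1
    exact (h.of_equiv e).congr_card (T.tf4 F m hm hF) (tf4_row (two_pow_mod m))
  · exact h.congr_card (T.spor K (.tits, 17971200) (by decide) h1) (by norm_num)

/-! ### the alternating groups -/

section Alt

/-- `(0 1 2)` -/
def a8x : Equiv.Perm (Fin 8) := Equiv.swap 0 1 * Equiv.swap 1 2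
/-- `(3 4 5)` -/
def a8y : Equiv.Perm (Fin 8) := Equiv.swap 3 4 * Equiv.swap 4 5
/-- `(3 4)(6 7)` -/
def a8h : Equiv.Perm (Fin 8) := Equiv.swap 3 4 * Equiv.swap 6 7

theorem a8x_mem : a8x ∈ alternatingGroup (Fin 8) := by
  rw [Equiv.Perm.mem_alternatingGroup, a8x, map_mul, Equiv.Perm.sign_swap (by decide), Equiv.Perm.sign_swap (by decide)]
  norm_num

theorem a8y_mem : a8y ∈ alternatingGroup (Fin 8) := by
  rw [Equiv.Perm.mem_alternatingGroup, a8y, map_mul, Equiv.Perm.sign_swap (by decide), Equiv.Perm.sign_swap (by decide)]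
  norm_num

theorem a8h_mem : a8h ∈ alternatingGroup (Fin 8) := by
  rw [Equiv.Perm.mem_alternatingGroup, a8h, map_mul, Equiv.Perm.sign_swap (by decide), Equiv.Perm.sign_swap (by decide)]
  norm_num

theorem notFree_a8 : NotFree (alternatingGroup (Fin 8)) := by
  refine notFree_of (x := ⟨a8x, a8x_mem⟩) (y := ⟨a8y, a8y_mem⟩) (h := ⟨a8h, a8h_mem⟩) ?_ ?_ ?_ ?_ ?_ ?_ ?_
  · exact Subtype.ext (show a8x ^ 3 = 1 by decide +kernel)
  · exact fun h => absurd (show a8x = 1 from congrArg Subtype.val h) (by decide +kernel)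
  · exact Subtype.ext (show a8y ^ 3 = 1 by decide +kernel)
  · exact fun h => absurd (show a8y = 1 from congrArg Subtype.val h) (by decide +kernel)
  · exact Subtype.ext (show a8x * a8y = a8y * a8x by decide +kernel)
  · exact Subtype.ext (show a8h * a8x = a8x * a8h by decide +kernel)
  · exact Subtype.ext (show a8h * a8y = a8y ^ 2 * a8h by decide +kernel)

theorem alt_row {n : ℕ} (hn : 5 ≤ n) (h : Nine (alternatingGroup (Fin n))) : n = 6 ∨ n = 7 ∨ n = 8 := by
  have h3 : 2 * Nat.card (alternatingGroup (Fin n)) = n.factorial := by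
    have : Nontrivial (Fin n) := Fin.nontrivial_iff_two_le.2 (by omega)
    rw [Nat.card_eq_fintype_card]
    have := two_mul_card_alternatingGroup (α := Fin n)
    rw [Fintype.card_perm, Fintype.card_fin] at this
    exact this
  by_contra hno
  have h5 : n = 5 ∨ 9 ≤ n := by omega
  rcases h5 with rfl | h9
  · have h4 : 9 ∣ (5 : ℕ).factorial := by rw [← h3]; exact dvd_mul_of_dvd_right h.dvd _
    revert h4
    decide
  · apply h.ndvd
    have h2 : Nat.Coprime (3 ^ 3) 2 := by norm_num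
    refine h2.dvd_of_dvd_mul_left ?_
    rw [h3]
    exact (show 27 ∣ (9 : ℕ).factorial by decide).trans (Nat.factorial_dvd_factorial h9)

end Alt

/-! ### the sporadic groups -/

theorem spor_key : ∀ x ∈ spor, 9 ∣ x.2 → ¬ 27 ∣ x.2 → x.1 = .m11 ∨ x.1 = .m22 ∨ x.1 = .m23 ∨ x.1 = .hs := by
  decide

theorem spor_row (T : OrderTable.{u}) {K : Type u} [Group K] (hK : IsSporadicGroup K) (h : Nine K) :
    Spor.IsoM11 K ∨ Spor.IsoM22 K ∨ Spor.IsoM23 K ∨ Spor.IsoHS K := by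
  have key : ∀ (g : Grp), g ∈ spor.map (fun x => x.1) → Real g K → g = .m11 ∨ g = .m22 ∨ g = .m23 ∨ g = .hs := by
    intro g hg hr
    obtain ⟨x, hx, rfl⟩ := List.mem_map.1 hg
    have hc := T.spor K x hx hr
    exact spor_key x hx (hc ▸ h.dvd) (hc ▸ h.ndvd)
  rcases hK with h1 | h1 | h1 | h1 | h1 | h1 | h1 | h1 | h1 | h1 | h1 | h1 | h1 | h1 | h1 | h1 | h1 | h1 | h1 | h1 |
    h1 | h1 | h1 | h1 | h1 | h1
  · exact Or.inl h1
  · exact absurd (key .m12 (by decide) h1) (by decide)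
  · exact Or.inr (Or.inl h1)
  · exact Or.inr (Or.inr (Or.inl h1))
  · exact absurd (key .m24 (by decide) h1) (by decide)
  · exact absurd (key .j1 (by decide) h1) (by decide)
  · exact absurd (key .j2 (by decide) h1) (by decide)
  · exact absurd (key .j3 (by decide) h1) (by decide)
  · exact absurd (key .j4 (by decide) h1) (by decide)
  · exact absurd (key .co1 (by decide) h1) (by decide)
  · exact absurd (key .co2 (by decide) h1) (by decide)
  · exact absurd (key .co3 (by decide) h1) (by decide)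
  · exact absurd (key .mcl (by decide) h1) (by decide)
  · exact Or.inr (Or.inr (Or.inr h1))
  · exact absurd (key .suz (by decide) h1) (by decide)
  · exact absurd (key .he (by decide) h1) (by decide)
  · exact absurd (key .ru (by decide) h1) (by decide)
  · exact absurd (key .on (by decide) h1) (by decide)
  · exact absurd (key .ly (by decide) h1) (by decide)
  · exact absurd (key .fi22 (by decide) h1) (by decide)
  · exact absurd (key .fi23 (by decide) h1) (by decide)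
  · exact absurd (key .fi24 (by decide) h1) (by decide)
  · exact absurd (key .hn (by decide) h1) (by decide)
  · exact absurd (key .th (by decide) h1) (by decide)
  · exact absurd (key .b (by decide) h1) (by decide)
  · exact absurd (key .m (by decide) h1) (by decide)

end Cfsg.Agent.H644.T9
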