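import Cfsg.Agent.Characters.Core
import Cfsg.Agent.Blocks.Deflate

/-!
# Isotypic parts of a character of a direct product (helper644)

`part ω j` : the part of the character `ω` of `G × A` belonging to the character `j` of `A`.
`irr_part` : if `⟨ω|G, ω|G⟩ ≤ |Irr A|` and all parts are nonzero, then all parts are irreducible.
-/

set_option autoImplicit false

namespace Cfsg.Agent.H644.T9

open Cfsg Representation Cfsg.Agent.Characters.Core
open scoped ComplexConjugate

universe u v

variable {G : Type u} [Group G] [Fintype G] {A : Type v} [Group A] [Fintype A]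

/-- the part of `ω` belonging to `j` -/
noncomputable def part (ω : G × A → ℂ) (j : A → ℂ) : G → ℂ :=
  fun g => (Nat.card A : ℂ)⁻¹ * ∑ a, ω (g, a) * conj (j a)

theorem classInner_part (ω : G × A → ℂ) (j : A → ℂ) (χ : G → ℂ) :
    classInner (part ω j) χ = classInner ω (fun x => χ x.1 * j x.2) := by
  rw [classInner_def, classInner_def, Nat.card_prod, Fintype.sum_prod_type, Nat.cast_mul, mul_inv, mul_assoc]
  congr 1
  rw [Finset.mul_sum]
  refine Finset.sum_congr rfl fun g _ => ?_
  simp only [part]
  rw [mul_assoc, Finset.sum_mul]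
  congr 1
  refine Finset.sum_congr rfl fun a _ => ?_
  rw [map_mul]
  ring

omit [Fintype G] in
theorem isClassFunction_part {ω : G × A → ℂ} (hω : IsClassFunction (G × A) ω) (j : A → ℂ) :
    IsClassFunction G (part ω j) := by
  intro g h
  simp only [part]
  congr 1
  refine Finset.sum_congr rfl fun a _ => ?_
  have := hω (g, a) (h, 1)
  rw [Prod.mk_mul_mk, Prod.inv_mk, Prod.mk_mul_mk, one_mul, inv_one, mul_one] at this
  rw [this]

theorem isCharacter_part {ω : G × A → ℂ} (hω : IsCharacter (G × A) ω) {j : A → ℂ} (hj : IsCharacter A j) :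
    IsCharacter G (part ω j) := by
  classical
  have := finite_irr (G := G)
  have := Fintype.ofFinite (IrrCharacter G)
  rw [isCharacter_iff]
  have h1 : ∀ χ : IrrCharacter G, ∃ n : ℕ, classInner (part ω j) (χ : G → ℂ) = n := by
    intro χ
    rw [classInner_part]
    refine classInner_isNat hω ?_
    exact isCharacter_mul (isCharacter_comp (MonoidHom.fst G A) (isIrr_isCharacter χ.2))
      (isCharacter_comp (MonoidHom.snd G A) hj)
  choose m hm using h1
  refine ⟨m, ?_⟩
  conv_lhs => rw [classFunction_eq_sum (isClassFunction_part (isCharacter_isClassFunction hω) j)]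
  refine Finset.sum_congr rfl fun χ _ => ?_
  rw [hm, Nat.cast_smul_eq_nsmul]

omit [Fintype G] in
theorem eq_sum_part [Fintype (IrrCharacter A)] {ω : G × A → ℂ} (hω : IsClassFunction (G × A) ω) (g : G) :
    ω (g, 1) = ∑ j : IrrCharacter A, (j : A → ℂ) 1 * part ω j g := by
  have h1 : IsClassFunction A (fun a => ω (g, a)) := by
    intro a b
    have := hω (g, a) (1, b)
    rw [Prod.mk_mul_mk, Prod.inv_mk, Prod.mk_mul_mk, one_mul, inv_one, mul_one] at this
    exact this
  have h2 := congrFun (classFunction_eq_sum h1) 1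
  simp only [Finset.sum_apply, Pi.smul_apply, smul_eq_mul] at h2
  rw [h2]
  refine Finset.sum_congr rfl fun j _ => ?_
  rw [classInner_def, mul_comm]
  rfl

/-- **All parts are irreducible** if the norm of the restriction is at most the number of characters of `A`. -/
theorem irr_part {ω : G × A → ℂ} (hω : IsCharacter (G × A) ω) {N : ℕ}
    (hN : classInner (fun g => ω (g, 1)) (fun g => ω (g, 1)) = N) (hle : N ≤ Nat.card (IrrCharacter A))
    (hne : ∀ j : IrrCharacter A, part ω j ≠ 0) (j : IrrCharacter A) : IsIrrCharacter G (part ω j) := by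
  classical
  have := finite_irr (G := A)
  have := Fintype.ofFinite (IrrCharacter A)
  have hc : ∀ j : IrrCharacter A, IsCharacter G (part ω j) := fun j => isCharacter_part hω (isIrr_isCharacter j.2)
  have h1 : ∀ i j : IrrCharacter A, ∃ n : ℕ, classInner (part ω i) (part ω j) = n := fun i j =>
    classInner_isNat (hc i) (hc j)
  choose n hn using h1
  have h2 : ∀ j : IrrCharacter A, ∃ d : ℕ, 0 < d ∧ (j : A → ℂ) 1 = d := fun j => isIrr_apply_one j.2
  choose d hd0 hd using h2
  have h3 : ∑ i, ∑ j, d i * d j * n i j = N := by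
    have h4 : (fun g => ω (g, 1)) = ∑ j : IrrCharacter A, (d j : ℂ) • part ω (j : A → ℂ) := by
      funext g
      rw [eq_sum_part (isCharacter_isClassFunction hω) g, Finset.sum_apply]
      refine Finset.sum_congr rfl fun j _ => ?_
      rw [Pi.smul_apply, smul_eq_mul, hd]
    rw [h4, classInner_sum_left] at hN
    have h5 : ((∑ i, ∑ j, d i * d j * n i j : ℕ) : ℂ) = N := by
      rw [← hN]
      push_cast
      refine Finset.sum_congr rfl fun i _ => ?_
      rw [classInner_smul_left, classInner_sum_right, Finset.mul_sum]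
      refine Finset.sum_congr rfl fun j _ => ?_
      rw [classInner_smul_right, hn, Complex.conj_natCast]
      ring
    exact_mod_cast h5
  have h6 : ∀ j, 1 ≤ n j j := by
    intro j
    rw [Nat.one_le_iff_ne_zero]
    intro h0
    apply hne j
    apply classInner_self_eq_zero
    rw [hn, h0, Nat.cast_zero]
  have h7 : ∀ j, 1 ≤ ∑ i, d j * d i * n j i := by
    intro j
    refine le_trans ?_ (Finset.single_le_sum (f := fun i => d j * d i * n j i) (fun _ _ => Nat.zero_le _)
      (Finset.mem_univ j))
    have := Nat.mul_pos (Nat.mul_pos (hd0 j) (hd0 j)) (h6 j)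
    omega
  apply isIrr_of_classInner_self (hc j)
  rw [hn]
  by_contra h8
  have h9 : n j j ≠ 1 := fun h => h8 (by rw [h, Nat.cast_one])
  have h10 : 2 ≤ n j j := by
    have := h6 j
    omega
  have h11 : 2 ≤ ∑ i, d j * d i * n j i := by
    refine le_trans ?_ (Finset.single_le_sum (f := fun i => d j * d i * n j i) (fun _ _ => Nat.zero_le _)
      (Finset.mem_univ j))
    have h12 : 1 ≤ d j * d j := Nat.mul_pos (hd0 j) (hd0 j)
    calc 2 ≤ 1 * n j j := by omega
      _ ≤ d j * d j * n j j := Nat.mul_le_mul_right _ h12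
  have h13 : ∑ i : IrrCharacter A, 1 < ∑ j, ∑ i, d j * d i * n j i :=
    Finset.sum_lt_sum (fun i _ => h7 i) ⟨j, Finset.mem_univ j, by omega⟩
  rw [h3, Finset.sum_const, smul_eq_mul, mul_one, Finset.card_univ, ← Nat.card_eq_fintype_card] at h13
  omega

end Cfsg.Agent.H644.T9
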