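import Cfsg.Agent.H644.T9.Free
import Cfsg.Agent.GH.LowRankMathieu
import Cfsg.Agent.SporadicA.MathieuRecog
import Cfsg.Agent.H904.HSCent

/-!
# S4876 (T9d), the table: `M₁₁`, `M₂₃`, `HS` (helper644)

Commuting `x`, `y` of order three and `h` with `hx = xh`, `hy = y²h`. The lemmas on tables are those of
`H852.NCMathieu`.
-/

set_option autoImplicit false

namespace Cfsg.Agent.H644.T9

open Cfsg Subgroup Cfsg.Agent.H629.T9

universe u v

section Mathieu

open Cfsg.Agent.GH.LowRankMathieu Cfsg.Agent.J4Type.CocodeMask Cfsg.Agent.SporadicA.GolayBase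
open Cfsg.Agent.SporadicA.GolayPerm hiding pcomp papp_pcomp
open scoped Pointwise

theorem sq_eq : Spor.squareDodecad = fin 340831 := by
  apply Finset.ext
  decide +kernel

theorem mem_M11 {P : ℕ} (h : (isPerm P && isAut P) = true) (h1 : pimg P 340831 = 340831) (h2 : papp P 0 = 0) :
    ((mk P h : M24) : Equiv.Perm GolayPt) ∈ Spor.M11 := by
  have hP : isPerm P = true := by
    rw [Bool.and_eq_true] at h
    exact h.1
  refine ⟨⟨(mk P h).2, ?_⟩, ?_⟩
  · show _ ∈ MulAction.stabilizer _ _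
    rw [MulAction.mem_stabilizer_iff, sq_eq]
    exact (smul_fin hP 340831).trans (by rw [h1])
  · show _ ∈ MulAction.stabilizer _ _
    rw [MulAction.mem_stabilizer_iff]
    apply idx_injective
    show idx (((mk P h : M24) : Equiv.Perm GolayPt) (some 0)) = idx (some 0)
    rw [isTab_mk P h (some 0), idx_zero, h2]

theorem mem_M23 {P : ℕ} (h : (isPerm P && isAut P) = true) (h1 : papp P 23 = 23) :
    ((mk P h : M24) : Equiv.Perm GolayPt) ∈ Spor.M23 := by
  refine ⟨(mk P h).2, ?_⟩
  show _ ∈ MulAction.stabilizer _ _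
  rw [MulAction.mem_stabilizer_iff]
  apply idx_injective
  show idx (((mk P h : M24) : Equiv.Perm GolayPt) none) = idx none
  rw [isTab_mk P h none, idx_none, h1]

/-- table of a permutation -/
def Tb (g : Equiv.Perm GolayPt) (P : ℕ) : Prop := ∀ p : GolayPt, idx (g p) = papp P (idx p)

theorem Tb.mul {g h : Equiv.Perm GolayPt} {P Q : ℕ} (hg : Tb g P) (hh : Tb h Q) : Tb (g * h) (pcomp P Q) := by
  intro p
  rw [papp_pcomp P Q (idx_lt p), ← hh p, ← hg]
  rfl

theorem tb_one : Tb 1 pone := by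
  intro p
  have h : ∀ p : GolayPt, idx p = papp pone (idx p) := by decide +kernel
  exact h p

theorem Tb.eq {g h : Equiv.Perm GolayPt} {P Q : ℕ} (hg : Tb g P) (hh : Tb h Q) (e : P = Q) : g = h := by
  subst e
  apply Equiv.ext
  intro p
  apply idx_injective
  rw [hg, hh]

theorem Tb.ne_one {g : Equiv.Perm GolayPt} {P : ℕ} (hg : Tb g P) (i : ZMod 23) (h : idx (some i) ≠ papp P (idx (some i))) :
    g ≠ 1 := by
  rintro rfl
  exact h (hg (some i))

/-- the criterion for tables -/
theorem notFree_tab {H : Subgroup (Equiv.Perm GolayPt)} {x y w : H} {P Q R : ℕ} (tx : Tb x P) (ty : Tb y Q)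
    (tw : Tb w R) (i j : ZMod 23) (hx : pcomp P (pcomp P P) = pone) (hx1 : idx (some i) ≠ papp P (idx (some i)))
    (hy : pcomp Q (pcomp Q Q) = pone) (hy1 : idx (some j) ≠ papp Q (idx (some j))) (hxy : pcomp P Q = pcomp Q P)
    (hh : pcomp R P = pcomp P R) (hi : pcomp R Q = pcomp (pcomp Q Q) R) : NotFree H := by
  refine notFree_of (x := x) (y := y) (h := w) ?_ ?_ ?_ ?_ ?_ ?_ ?_
  · rw [pow_succ', pow_two]
    exact Subtype.ext ((tx.mul (tx.mul tx)).eq tb_one hx)
  · exact fun hc => tx.ne_one i hx1 (congrArg Subtype.val hc)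
  · rw [pow_succ', pow_two]
    exact Subtype.ext ((ty.mul (ty.mul ty)).eq tb_one hy)
  · exact fun hc => ty.ne_one j hy1 (congrArg Subtype.val hc)
  · exact Subtype.ext ((tx.mul ty).eq (ty.mul tx) hxy)
  · exact Subtype.ext ((tw.mul tx).eq (tx.mul tw) hh)
  · rw [pow_two]
    exact Subtype.ext ((tw.mul ty).eq ((ty.mul ty).mul tw) hi)

/-- `M₁₁` -/
theorem nf11 (P Q R : ℕ) (hP : (isPerm P && isAut P) = true ∧ pimg P 340831 = 340831 ∧ papp P 0 = 0)
    (hQ : (isPerm Q && isAut Q) = true ∧ pimg Q 340831 = 340831 ∧ papp Q 0 = 0)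
    (hR : (isPerm R && isAut R) = true ∧ pimg R 340831 = 340831 ∧ papp R 0 = 0) (i j : ZMod 23)
    (hx : pcomp P (pcomp P P) = pone) (hx1 : idx (some i) ≠ papp P (idx (some i)))
    (hy : pcomp Q (pcomp Q Q) = pone) (hy1 : idx (some j) ≠ papp Q (idx (some j))) (hxy : pcomp P Q = pcomp Q P)
    (hh : pcomp R P = pcomp P R) (hi : pcomp R Q = pcomp (pcomp Q Q) R) : NotFree Spor.M11 :=
  notFree_tab (H := Spor.M11) (x := ⟨_, mem_M11 hP.1 hP.2.1 hP.2.2⟩) (y := ⟨_, mem_M11 hQ.1 hQ.2.1 hQ.2.2⟩)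
    (w := ⟨_, mem_M11 hR.1 hR.2.1 hR.2.2⟩) (isTab_mk _ hP.1) (isTab_mk _ hQ.1) (isTab_mk _ hR.1) i j hx hx1 hy hy1 hxy hh hi

theorem notFree_m11 {X : Type u} [Group X] (h : Spor.IsoM11 X) : NotFree X := by
  obtain ⟨e⟩ := h
  exact (nf11 816061783011650072799398389186036928 975288047478159425401548877949089056
    305471767349930039887875515826442656 (by decide +kernel) (by decide +kernel) (by decide +kernel) 1 1
    (by decide +kernel) (by decide +kernel) (by decide +kernel) (by decide +kernel) (by decide +kernel)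
    (by decide +kernel) (by decide +kernel)).congr e.symm

/-- `M₂₃` -/
theorem nf23 (P Q R : ℕ) (hP : (isPerm P && isAut P) = true ∧ papp P 23 = 23)
    (hQ : (isPerm Q && isAut Q) = true ∧ papp Q 23 = 23)
    (hR : (isPerm R && isAut R) = true ∧ papp R 23 = 23) (i j : ZMod 23)
    (hx : pcomp P (pcomp P P) = pone) (hx1 : idx (some i) ≠ papp P (idx (some i)))
    (hy : pcomp Q (pcomp Q Q) = pone) (hy1 : idx (some j) ≠ papp Q (idx (some j))) (hxy : pcomp P Q = pcomp Q P)
    (hh : pcomp R P = pcomp P R) (hi : pcomp R Q = pcomp (pcomp Q Q) R) : NotFree Spor.M23 :=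
  notFree_tab (H := Spor.M23) (x := ⟨_, mem_M23 hP.1 hP.2⟩) (y := ⟨_, mem_M23 hQ.1 hQ.2⟩)
    (w := ⟨_, mem_M23 hR.1 hR.2⟩) (isTab_mk _ hP.1) (isTab_mk _ hQ.1) (isTab_mk _ hR.1) i j hx hx1 hy hy1 hxy hh hi

theorem notFree_m23 {X : Type u} [Group X] (h : Spor.IsoM23 X) : NotFree X := by
  obtain ⟨e⟩ := h
  exact (nf23 968693728812522087209594301661173792 960798089052735824019735339244573248
    984569746182803254892263252834650147 (by decide +kernel) (by decide +kernel) (by decide +kernel) 2 1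
    (by decide +kernel) (by decide +kernel) (by decide +kernel) (by decide +kernel) (by decide +kernel)
    (by decide +kernel) (by decide +kernel)).congr e.symm

end Mathieu

section HS

open Cfsg.Agent.SporadicA.PermTab Cfsg.Agent.HN Cfsg.Agent.HN.HS100 Cfsg.Agent.HN.Pres Cfsg.Agent.KFacts.HS
open Cfsg.Agent.H904.HSCent

/-- of order three -/
def tu : ℕ := 0xb01883085a0be1341f03c0b61302f03a0901081784f076148160290820a02c86006a15c1104a05c1382281f0aa0782a01d07e0901e81802e18c198320920501a04b05604c2801208609c088150720c01884608e0301085d0160dc050100121580d8080800d80385c0a60142881a0700a80780305a08c0c80201c0942200101a018000040400980e016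
/-- of order three -/
def tv : ℕ := 0x741140305a0be02c2300a0b6130118630ae078018540a21480880509e06c070600921280384805c0741e8120201582082407e138310250581600f850032178110370120a40b03304009c0b80f0880e40004008e06001028034034130080541082e85507c1641a02102a04c1684d0620ac298010760501a85c06c0301802f0960101c0610380f021832

theorem inTu : InG Q tu := word_of (L := [tY, tY]) (mem3 inX inY inW) (by simp) (by decide +kernel)

theorem inTv : InG Q tv := word_of (L := [tY, tY, tX, tY, tW, tW, tW, tY, tW, tW, tW, tW, tW, tY, tY, tY, tY, tY, tW,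
  tW, tW, tW, tW, tX, tY]) (mem3 inX inY inW) (by simp) (by decide +kernel)

/-- `HS` -/
theorem notFree_hs {X : Type u} [Group X] (h : Spor.IsoHS X) : NotFree X := by
  obtain ⟨D, ψ, R⟩ := exists_rep h
  obtain ⟨x, hx⟩ := R.exists_of inTu
  obtain ⟨y, hy⟩ := R.exists_of inTv
  obtain ⟨w, hw⟩ := R.exists_of inY
  refine notFree_of (x := x) (y := y) (h := w) ?_ ?_ ?_ ?_ ?_ ?_ ?_
  · apply R.inj
    refine Equiv.ext fun i => Fin.ext ?_
    rw [pow_succ, pow_two, map_mul, map_mul, map_one, Equiv.Perm.mul_apply, Equiv.Perm.mul_apply, hx, hx, hx]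
    have h4 : allB (fun i => Nat.beq (lk tu (lk tu (lk tu i))) i) 100 = true := by decide +kernel
    exact Nat.eq_of_beq_eq_true ((allB_iff _ _).1 h4 i i.2)
  · rintro rfl
    have h1 := hx 0
    rw [map_one] at h1
    revert h1
    decide +kernel
  · apply R.inj
    refine Equiv.ext fun i => Fin.ext ?_
    rw [pow_succ, pow_two, map_mul, map_mul, map_one, Equiv.Perm.mul_apply, Equiv.Perm.mul_apply, hy, hy, hy]
    have h4 : allB (fun i => Nat.beq (lk tv (lk tv (lk tv i))) i) 100 = true := by decide +kernel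
    exact Nat.eq_of_beq_eq_true ((allB_iff _ _).1 h4 i i.2)
  · rintro rfl
    have h1 := hy 0
    rw [map_one] at h1
    revert h1
    decide +kernel
  · apply R.inj
    refine Equiv.ext fun i => Fin.ext ?_
    rw [map_mul, map_mul, Equiv.Perm.mul_apply, Equiv.Perm.mul_apply, hx, hy, hy, hx]
    have h4 : allB (fun i => Nat.beq (lk tu (lk tv i)) (lk tv (lk tu i))) 100 = true := by decide +kernel
    exact Nat.eq_of_beq_eq_true ((allB_iff _ _).1 h4 i i.2)
  · apply R.inj
    refine Equiv.ext fun i => Fin.ext ?_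
    rw [map_mul, map_mul, Equiv.Perm.mul_apply, Equiv.Perm.mul_apply, hx, hw, hw, hx]
    have h4 : allB (fun i => Nat.beq (lk tY (lk tu i)) (lk tu (lk tY i))) 100 = true := by decide +kernel
    exact Nat.eq_of_beq_eq_true ((allB_iff _ _).1 h4 i i.2)
  · apply R.inj
    refine Equiv.ext fun i => Fin.ext ?_
    rw [pow_two, map_mul, map_mul, map_mul, Equiv.Perm.mul_apply, Equiv.Perm.mul_apply, Equiv.Perm.mul_apply, hw, hy,
      hy, hy, hw]
    have h4 : allB (fun i => Nat.beq (lk tY (lk tv i)) (lk tv (lk tv (lk tY i)))) 100 = true := by decide +kernel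
    exact Nat.eq_of_beq_eq_true ((allB_iff _ _).1 h4 i i.2)

end HS

end Cfsg.Agent.H644.T9
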